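import Cfsg.Agent.Lib.Char.DegreeCenter
import Cfsg.Agent.Lib.Solvable.Basic
import Mathlib

/-!
# Monomial extension of a fully ramified group

Given a faithful irreducible matrix group `H` with `n² = |H : Z(H)|` and an action of `H / Z(H)` on
an elementary abelian group `V`, the group of operators `f · P_w ⊗ ρ(h)` on `ℂ[V] ⊗ ℂⁿ`, with `f`
affine, is again faithful irreducible and fully ramified over its centre.
-/

set_option autoImplicit false
set_option linter.style.haveILetI false
set_option linter.unusedSectionVars false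

namespace Cfsg.Agent.CentralTypeExt

open Matrix Cfsg.Agent.Char
open scoped ComplexConjugate Classical

universe u v

/-- The representation on column vectors given by a matrix representation. -/
noncomputable def matRep {G : Type u} [Group G] {X : Type v} [Fintype X] [DecidableEq X]
    (R : G →* Matrix X X ℂ) : Representation ℂ G (X → ℂ) :=
  (Matrix.toLinAlgEquiv' : Matrix X X ℂ ≃ₐ[ℂ] _).toMonoidHom.comp R

theorem matRep_apply {G : Type u} [Group G] {X : Type v} [Fintype X] [DecidableEq X]
    (R : G →* Matrix X X ℂ) (g : G) : matRep R g = Matrix.toLinAlgEquiv' (R g) := rfl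

theorem matRep_character {G : Type u} [Group G] {X : Type v} [Fintype X] [DecidableEq X]
    (R : G →* Matrix X X ℂ) : (matRep R).character = fun g => (R g).trace := by
  funext g
  exact Matrix.trace_toLin'_eq (R g)

/-- In a faithful irreducible matrix group the centre consists of the scalars. -/
theorem mem_center_iff_scalar {H : Type u} [Group H] [Finite H] {n : ℕ}
    (ρ : H →* Matrix (Fin n) (Fin n) ℂ) (hinj : Function.Injective ρ)
    (hirr : Cfsg.IsIrrCharacter H (fun h => (ρ h).trace)) (h : H) :
    h ∈ Subgroup.center H ↔ ∃ c : ℂ, ρ h = c • 1 := by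
  haveI : Fintype H := Fintype.ofFinite H
  constructor
  · intro hh
    haveI : (matRep ρ).IsIrreducible := isIrreducible_of_norm_one _ (by
      rw [matRep_character]; exact classInner_self_irr hirr)
    obtain ⟨c, hc⟩ := schur_scalar (matRep ρ) (matRep ρ h) fun g x => by
      rw [← Module.End.mul_apply, ← map_mul, ← Module.End.mul_apply, ← map_mul,
        Subgroup.mem_center_iff.mp hh g]
    refine ⟨c, Matrix.toLinAlgEquiv'.injective ?_⟩
    rw [← matRep_apply, hc, map_smul, map_one]
    rfl
  · rintro ⟨c, hc⟩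
    refine Subgroup.mem_center_iff.mpr fun g => hinj ?_
    rw [map_mul, map_mul, hc]
    simp

/-- The trace of a faithful matrix representation is a faithful character. -/
theorem eq_one_of_trace_eq {H : Type u} [Group H] [Finite H] {n : ℕ}
    (ρ : H →* Matrix (Fin n) (Fin n) ℂ) (hinj : Function.Injective ρ) (g : H)
    (hg : (ρ g).trace = (ρ 1).trace) : g = 1 := by
  rcases Nat.eq_zero_or_pos n with rfl | hn
  · exact hinj (Subsingleton.elim _ _)
  have hone : (matRep ρ).character g = (matRep ρ).character 1 := by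
    rw [matRep_character]; exact hg
  have h1 : (matRep ρ).character g = (n : ℂ) := by
    rw [hone, Representation.char_one]; simp
  obtain ⟨c, hc⟩ := (norm_char_eq_iff (matRep ρ) g).mp (by rw [h1]; simp)
  have hc1 : c = 1 := by
    have h2 : (matRep ρ).character g = c * n := by
      rw [Representation.character, hc, map_smul, LinearMap.trace_id, smul_eq_mul]; simp
    exact mul_right_cancel₀ (Nat.cast_ne_zero.mpr hn.ne') ((h2.symm.trans h1).trans (one_mul _).symm)
  apply hinj
  rw [map_one]
  refine Matrix.toLinAlgEquiv'.injective ?_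
  rw [← matRep_apply, hc, hc1, one_smul, map_one]
  rfl

section Ext

variable {V : Type u} [CommGroup V] [Fintype V] {H : Type u} [Group H] [Fintype H]
variable (p : ℕ) [Fact p.Prime] (hV : ∀ x : V, x ^ p = 1)

/-- Affine functions `V → ℂˣ` with constant term of order dividing `p`. -/
def aff : Subgroup (V → ℂˣ) where
  carrier := {f | f 1 ^ p = 1 ∧ ∀ x y, f (x * y) * f 1 = f x * f y}
  one_mem' := ⟨one_pow _, fun _ _ => rfl⟩
  mul_mem' := fun {a b} ha hb => ⟨by rw [Pi.mul_apply, mul_pow, ha.1, hb.1, one_mul], fun x y => by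
    simp only [Pi.mul_apply]
    rw [mul_mul_mul_comm, ha.2, hb.2, mul_mul_mul_comm]⟩
  inv_mem' := fun {a} ha => ⟨by rw [Pi.inv_apply, inv_pow, ha.1, inv_one], fun x y => by
    simp only [Pi.inv_apply]
    rw [← mul_inv, ← mul_inv, ha.2]⟩

/-- A linear character is affine. -/
def ofHom (l : V →* ℂˣ) : aff (V := V) p :=
  ⟨fun x => l x, by simp, fun x y => by simp⟩

/-- A constant is affine. -/
def ofConst (c : rootsOfUnity p ℂ) : aff (V := V) p :=
  ⟨fun _ => (c : ℂˣ), c.2, fun _ _ => rfl⟩

/-- The linear part of an affine function. -/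
def linPart (f : aff (V := V) p) : V →* ℂˣ where
  toFun x := f.1 x * (f.1 1)⁻¹
  map_one' := mul_inv_cancel _
  map_mul' x y := by
    rw [show f.1 (x * y) = f.1 x * f.1 y * (f.1 1)⁻¹ from eq_mul_inv_of_mul_eq (f.2.2 x y)]
    rw [mul_mul_mul_comm, mul_assoc]

include hV in
theorem aff_pow (f : aff (V := V) p) (x : V) : f.1 x ^ p = 1 := by
  have h : (linPart p f x) ^ p = 1 := by rw [← map_pow, hV, map_one]
  have h2 : f.1 x = linPart p f x * f.1 1 := by simp [linPart]
  rw [h2, mul_pow, h, f.2.1, one_mul]

/-- Affine functions are a constant times a linear character. -/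
def affEquiv : aff (V := V) p ≃ rootsOfUnity p ℂ × (V →* ℂˣ) where
  toFun f := (⟨f.1 1, f.2.1⟩, linPart p f)
  invFun a := ofConst p a.1 * ofHom p a.2
  left_inv f := Subtype.ext (funext fun x => by
    simp [ofConst, ofHom, linPart, mul_left_comm, mul_comm])
  right_inv a := by
    refine Prod.ext (Subtype.ext ?_) (MonoidHom.ext fun x => ?_)
    · simp [ofConst, ofHom]
    · simp [ofConst, ofHom, linPart, mul_assoc, mul_comm, mul_left_comm]

instance : Finite (aff (V := V) p) := Finite.of_equiv _ (affEquiv p).symm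

theorem card_aff : Nat.card (aff (V := V) p) = p * Nat.card V := by
  haveI : NeZero p := ⟨(Fact.out : p.Prime).ne_zero⟩
  rw [Nat.card_congr (affEquiv p), Nat.card_prod,
    CommGroup.card_monoidHom_of_hasEnoughRootsOfUnity, Complex.card_rootsOfUnity]

include hV in
theorem sum_aff [Fintype (aff (V := V) p)] (x y : V) :
    ∑ f : aff (V := V) p, (f.1 x : ℂ) * conj (f.1 y : ℂ) =
      if x = y then ((p * Nat.card V : ℕ) : ℂ) else 0 := by
  have hp0 : p ≠ 0 := (Fact.out : p.Prime).ne_zero
  have hn : ∀ (f : aff (V := V) p) (z : V), conj (f.1 z : ℂ) = (f.1 z : ℂ)⁻¹ := fun f z =>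
    (Complex.inv_eq_conj (norm_eq_one_of_pow hp0
      (by rw [← Units.val_pow_eq_pow_val, aff_pow p hV, Units.val_one]))).symm
  split_ifs with hxy
  · subst hxy
    simp only [hn, ne_eq, Units.ne_zero, not_false_eq_true, mul_inv_cancel₀, Finset.sum_const,
      Finset.card_univ, nsmul_one, ← Nat.card_eq_fintype_card, card_aff]
  · obtain ⟨l, hl⟩ := CommGroup.exists_apply_ne_one_of_hasEnoughRootsOfUnity V ℂ
      (a := x * y⁻¹) (by rw [ne_eq, mul_inv_eq_one]; exact hxy)
    set S := ∑ f : aff (V := V) p, (f.1 x : ℂ) * conj (f.1 y : ℂ) with hS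
    have key : S = ((l (x * y⁻¹) : ℂˣ) : ℂ) * S := by
      conv_lhs => rw [hS, ← Equiv.sum_comp (Equiv.mulLeft (ofHom p l))]
      rw [hS, Finset.mul_sum]
      refine Finset.sum_congr rfl fun f _ => ?_
      rw [hn, hn]
      simp only [Equiv.coe_mulLeft, Subgroup.coe_mul, Pi.mul_apply, ofHom, map_mul, map_inv,
        Units.val_mul, Units.val_inv_eq_inv_val, mul_inv]
      ring
    have h1 : (((l (x * y⁻¹) : ℂˣ) : ℂ) - 1) * S = 0 := by rw [sub_mul, one_mul, ← key, sub_self]
    refine (mul_eq_zero.mp h1).resolve_left (sub_ne_zero.mpr fun e => hl ?_)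
    exact Units.ext (e.trans Units.val_one.symm)

variable (α : H →* MulAut V)

/-- The affine action of `V ⋊ H` on `V`. -/
def act (w : V ⋊[α] H) (x : V) : V := w.left * α w.right x

theorem act_one (x : V) : act α 1 x = x := by simp [act]

theorem act_mul (w w' : V ⋊[α] H) (x : V) : act α (w * w') x = act α w (act α w' x) := by
  simp [act, mul_assoc]

theorem act_inv_act (w : V ⋊[α] H) (x : V) : act α w⁻¹ (act α w x) = x := by
  rw [← act_mul, inv_mul_cancel, act_one]

theorem act_act_inv (w : V ⋊[α] H) (x : V) : act α w (act α w⁻¹ x) = x := by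
  rw [← act_mul, mul_inv_cancel, act_one]

theorem aff_comp (f : aff (V := V) p) (w : V ⋊[α] H) (hV : ∀ x : V, x ^ p = 1) :
    (fun x => f.1 (act α w x)) ∈ aff (V := V) p := by
  refine ⟨aff_pow p hV f _, fun x y => ?_⟩
  simp only [act, map_mul, map_one, mul_one]
  have h1 := f.2.2 (w.left * α w.right x) (α w.right y)
  have h2 := f.2.2 w.left (α w.right y)
  apply mul_right_cancel (b := f.1 1)
  rw [← mul_assoc w.left, mul_right_comm, h1, mul_assoc, mul_assoc (f.1 _), h2,
    mul_comm (f.1 (α w.right y))]

instance : Finite (V ⋊[α] H) := Finite.of_equiv _ SemidirectProduct.equivProd.symm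

/-- `V ⋊ H` acts on affine functions. -/
def affAct : (V ⋊[α] H) →* MulAut (aff (V := V) p) where
  toFun w :=
    { toFun := fun f => ⟨_, aff_comp p α f w⁻¹ hV⟩
      invFun := fun f => ⟨_, aff_comp p α f w hV⟩
      left_inv := fun f => Subtype.ext (funext fun x => by simp [act_inv_act])
      right_inv := fun f => Subtype.ext (funext fun x => by simp [act_act_inv])
      map_mul' := fun f g => rfl }
  map_one' := by
    ext f : 2
    exact funext fun x => by simp [act_one]
  map_mul' w w' := by
    ext f : 2
    exact funext fun x => by simp [act_mul]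

/-- The extended group. -/
abbrev Big := aff (V := V) p ⋊[affAct p hV α] (V ⋊[α] H)

variable {n : ℕ} (ρ : H →* Matrix (Fin n) (Fin n) ℂ)

/-- The monomial-tensor matrices. -/
noncomputable def bigRep : Big p hV α →* Matrix (V × Fin n) (V × Fin n) ℂ where
  toFun k := Matrix.of fun a b => if act α k.right b.1 = a.1 then
    (k.left.1 a.1 : ℂ) * ρ k.right.right a.2 b.2 else 0
  map_one' := by
    ext ⟨x, i⟩ ⟨y, j⟩
    simp only [SemidirectProduct.one_right, SemidirectProduct.one_left, Subgroup.coe_one,
      Pi.one_apply, Units.val_one, one_mul, map_one, Matrix.of_apply, Matrix.one_apply, act_one,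
      Prod.mk.injEq]
    by_cases h : y = x
    · subst h; by_cases hij : i = j <;> simp [hij]
    · simp [h, Ne.symm h]
  map_mul' k k' := by
    ext ⟨x, i⟩ ⟨y, j⟩
    simp only [Matrix.mul_apply, Matrix.of_apply, SemidirectProduct.mul_right,
      SemidirectProduct.mul_left, Subgroup.coe_mul, Pi.mul_apply, Units.val_mul, act_mul, map_mul]
    rw [Fintype.sum_prod_type, Finset.sum_eq_single (act α k'.right y) ?_
      (fun h => absurd (Finset.mem_univ _) h)]
    · by_cases h : act α k.right (act α k'.right y) = x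
      · have hx : (affAct p hV α k.right k'.left).1 x = k'.left.1 (act α k'.right y) := by
          show k'.left.1 (act α k.right⁻¹ x) = _
          rw [← h, act_inv_act]
        simp only [h, if_true, hx, Matrix.mul_apply, Finset.mul_sum]
        refine Finset.sum_congr rfl fun l _ => ?_
        ring
      · simp [h]
    · intro z _ hz
      exact Finset.sum_eq_zero fun l _ => by rw [if_neg (Ne.symm hz), mul_zero]

theorem trace_bigRep (k : Big p hV α) : (bigRep p hV α ρ k).trace =
    (ρ k.right.right).trace * ∑ x : V, if act α k.right x = x then (k.left.1 x : ℂ) else 0 := by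
  rw [Matrix.trace, Fintype.sum_prod_type, Finset.mul_sum]
  refine Finset.sum_congr rfl fun x _ => ?_
  by_cases h : act α k.right x = x
  · simp [bigRep, h, Matrix.trace, Finset.mul_sum, mul_comm]
  · simp [bigRep, h]

theorem sum_norm_sq [Fintype (Big p hV α)]
    (hirr : Cfsg.IsIrrCharacter H (fun h => (ρ h).trace)) :
    ∑ k : Big p hV α, (bigRep p hV α ρ k).trace * conj (bigRep p hV α ρ k).trace =
      (Nat.card (Big p hV α) : ℂ) := by
  haveI : Fintype (aff (V := V) p) := Fintype.ofFinite _
  haveI : Fintype (V ⋊[α] H) := Fintype.ofFinite _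
  rw [← Equiv.sum_comp SemidirectProduct.equivProd.symm, Fintype.sum_prod_type, Finset.sum_comm,
    ← Equiv.sum_comp (SemidirectProduct.equivProd (φ := α)).symm, Fintype.sum_prod_type,
    Finset.sum_comm]
  simp only [trace_bigRep, map_mul, map_sum, apply_ite (starRingEnd ℂ), map_zero]
  have hinner : ∀ (h : H) (v : V),
      ∑ f : aff (V := V) p, ((ρ h).trace * ∑ x : V, if act α ⟨v, h⟩ x = x then (f.1 x : ℂ) else 0) *
        (conj (ρ h).trace * ∑ y : V, if act α ⟨v, h⟩ y = y then conj (f.1 y : ℂ) else 0) =
      (ρ h).trace * conj (ρ h).trace *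
        ∑ x : V, if act α ⟨v, h⟩ x = x then ((p * Nat.card V : ℕ) : ℂ) else 0 := by
    intro h v
    generalize hw : (⟨v, h⟩ : V ⋊[α] H) = w
    simp only [mul_mul_mul_comm _ (Finset.sum _ _), ← Finset.mul_sum]
    congr 1
    clear hw
    simp only [Finset.sum_mul_sum]
    rw [Finset.sum_comm]
    refine Finset.sum_congr rfl fun x _ => ?_
    rw [Finset.sum_comm]
    by_cases hx : act α w x = x
    · simp only [hx, if_true]
      rw [Finset.sum_eq_single x ?_ (fun h => absurd (Finset.mem_univ _) h)]
      · simp [hx, sum_aff p hV]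
      · intro y _ hy
        by_cases hy' : act α w y = y
        · simp [hy', sum_aff p hV, Ne.symm hy]
        · simp [hy']
    · simp [hx]
  have hfix : ∀ h : H, ∑ v : V, ∑ x : V,
      (if act α ⟨v, h⟩ x = x then ((p * Nat.card V : ℕ) : ℂ) else 0) =
        (Nat.card V : ℂ) * ((p * Nat.card V : ℕ) : ℂ) := by
    intro h
    rw [Finset.sum_comm, Finset.sum_congr rfl (g := fun _ => ((p * Nat.card V : ℕ) : ℂ))]
    · simp [Nat.card_eq_fintype_card]
    · intro x _
      simp only [act, ← eq_mul_inv_iff_mul_eq, Finset.sum_ite_eq', Finset.mem_univ, if_true]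
  refine (Finset.sum_congr rfl fun h _ => (Finset.sum_congr rfl fun v _ => hinner h v)).trans ?_
  simp only [← Finset.mul_sum, hfix, ← Finset.sum_mul]
  have hH : ∑ h : H, (ρ h).trace * conj (ρ h).trace = (Nat.card H : ℂ) := by
    have h1 := classInner_self_irr (G := H) hirr
    rw [Cfsg.classInner, inv_mul_eq_one₀ (Nat.cast_ne_zero.mpr Nat.card_pos.ne')] at h1
    exact h1.symm
  rw [hH, SemidirectProduct.card, SemidirectProduct.card, card_aff]
  push_cast
  ring

/-- The central candidates: constants and the centre of `H`. -/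
def centralPart (hα : ∀ z ∈ Subgroup.center H, α z = 1) :
    rootsOfUnity p ℂ × Subgroup.center H →* Big p hV α where
  toFun a := ⟨ofConst p a.1, ⟨1, a.2⟩⟩
  map_one' := rfl
  map_mul' a b := by
    refine SemidirectProduct.ext ?_ ?_
    · exact Subtype.ext (funext fun x => rfl)
    · refine SemidirectProduct.ext ?_ ?_ <;> simp [hα a.2 a.2.2]

theorem centralPart_injective (hα : ∀ z ∈ Subgroup.center H, α z = 1) :
    Function.Injective (centralPart p hV α hα) := by
  intro a b h
  haveI : NeZero p := ⟨(Fact.out : p.Prime).ne_zero⟩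
  have h1 := congrArg (fun k : Big p hV α => k.left.1 1) h
  have h2 := congrArg (fun k : Big p hV α => k.right.right) h
  exact Prod.ext (Subtype.ext h1) (Subtype.ext h2)

theorem scalar_iff (hinj : Function.Injective ρ)
    (hirr : Cfsg.IsIrrCharacter H (fun h => (ρ h).trace)) (hα : ∀ z ∈ Subgroup.center H, α z = 1)
    (hn : 0 < n) (k : Big p hV α) :
    (∃ c : ℂ, bigRep p hV α ρ k = c • 1) ↔ k ∈ (centralPart p hV α hα).range := by
  constructor
  · rintro ⟨c, hc⟩
    have hent : ∀ a b : V × Fin n, (if act α k.right b.1 = a.1 then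
        (k.left.1 a.1 : ℂ) * ρ k.right.right a.2 b.2 else 0) = if a = b then c else 0 := fun a b => by
      have := congrFun (congrFun hc a) b
      simpa [bigRep, Matrix.one_apply] using this
    have hfix : ∀ y, act α k.right y = y := by
      intro y
      by_contra hy
      let i : Fin n := ⟨0, hn⟩
      obtain ⟨j, hj⟩ : ∃ j, ρ k.right.right i j ≠ 0 := by
        by_contra hall
        push Not at hall
        have h1 := congrFun (congrFun (map_mul ρ k.right.right k.right.right⁻¹) i) i
        rw [mul_inv_cancel, map_one, Matrix.mul_apply] at h1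
        simp [hall] at h1
      have h1 := hent (act α k.right y, i) (y, j)
      rw [if_pos rfl, if_neg (by simp [hy])] at h1
      simp [hj] at h1
    have hleft : k.right.left = 1 := by simpa [act] using hfix 1
    have hscal : ∀ x, (k.left.1 x : ℂ) • ρ k.right.right = c • 1 := fun x => by
      ext i j
      simpa [hfix x, Matrix.one_apply] using hent (x, i) (x, j)
    have hρ : ρ k.right.right = (c / (k.left.1 1 : ℂ)) • 1 := by
      rw [div_eq_inv_mul, ← smul_smul, ← hscal 1, smul_smul, inv_mul_cancel₀ (Units.ne_zero _),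
        one_smul]
    have hconst : ∀ x, k.left.1 x = k.left.1 1 := by
      intro x
      have h0 : ρ k.right.right ≠ 0 := by
        intro h0
        have h1 := congrFun (congrFun (map_mul ρ k.right.right k.right.right⁻¹) ⟨0, hn⟩) ⟨0, hn⟩
        rw [mul_inv_cancel, map_one, h0, zero_mul] at h1
        simp at h1
      exact Units.ext (smul_left_injective ℂ h0 ((hscal x).trans (hscal 1).symm))
    refine ⟨(⟨k.left.1 1, k.left.2.1⟩,
      ⟨k.right.right, (mem_center_iff_scalar ρ hinj hirr _).mpr ⟨_, hρ⟩⟩), ?_⟩
    refine SemidirectProduct.ext (Subtype.ext (funext fun x => ?_)) (SemidirectProduct.ext ?_ ?_)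
    · exact (hconst x).symm
    · exact hleft.symm
    · rfl
  · rintro ⟨⟨c, z⟩, rfl⟩
    obtain ⟨d, hd⟩ := (mem_center_iff_scalar ρ hinj hirr _).mp z.2
    refine ⟨((c : ℂˣ) : ℂ) * d, ?_⟩
    ext ⟨x, i⟩ ⟨y, j⟩
    simp only [bigRep, centralPart, ofConst, MonoidHom.coe_mk, OneHom.coe_mk, Matrix.of_apply, hd,
      act, hα _ z.2, MulAut.one_apply, one_mul, Matrix.smul_apply, Matrix.one_apply, smul_eq_mul,
      Prod.mk.injEq]
    by_cases h : y = x
    · subst h; by_cases hij : i = j <;> simp [hij]
    · simp [h, Ne.symm h]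

include hV in
/-- The extension step. -/
theorem exists_ext (hinj : Function.Injective ρ)
    (hirr : Cfsg.IsIrrCharacter H (fun h => (ρ h).trace))
    (hn2 : n ^ 2 = (Subgroup.center H).index) (hα : ∀ z ∈ Subgroup.center H, α z = 1) :
    ∃ (H' : Type u) (_ : Group H') (_ : Finite H') (n' : ℕ)
      (ρ' : H' →* Matrix (Fin n') (Fin n') ℂ) (π : Big p hV α →* H'), Function.Surjective π ∧
      Function.Injective ρ' ∧ Cfsg.IsIrrCharacter H' (fun h => (ρ' h).trace) ∧
      n' ^ 2 = (Subgroup.center H').index ∧
      (Subgroup.center H').comap π = (centralPart p hV α hα).range ∧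
      ∀ a, π (centralPart p hV α hα a) = 1 →
        ((a.1 : ℂˣ) : ℂ) • ρ (a.2 : H) = 1 := by
  haveI : NeZero p := ⟨(Fact.out : p.Prime).ne_zero⟩
  have hn : 0 < n := Nat.pos_of_ne_zero fun h => Subgroup.index_ne_zero_of_finite
    (H := Subgroup.center H) (by rw [← hn2, h]; rfl)
  haveI : Finite (Big p hV α) := Finite.of_equiv _ SemidirectProduct.equivProd.symm
  haveI : Fintype (Big p hV α) := Fintype.ofFinite _
  let e : V × Fin n ≃ Fin (Fintype.card (V × Fin n)) := Fintype.equivFin _
  let R' : Big p hV α →* Matrix (Fin (Fintype.card (V × Fin n))) (Fin (Fintype.card (V × Fin n))) ℂ :=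
    (Matrix.reindexAlgEquiv ℂ ℂ e).toMonoidHom.comp (bigRep p hV α ρ)
  let π := QuotientGroup.mk' R'.ker
  let ρ' := QuotientGroup.lift R'.ker R' le_rfl
  have hπ : Function.Surjective π := QuotientGroup.mk'_surjective _
  have hρinj : Function.Injective ρ' := (QuotientGroup.injective_lift_iff _ _ _).mpr rfl
  have htr : ∀ k, (ρ' (π k)).trace = (bigRep p hV α ρ k).trace := fun k => by
    show ((Matrix.reindexAlgEquiv ℂ ℂ e) (bigRep p hV α ρ k)).trace = _
    simp only [Matrix.trace, Matrix.diag]
    rw [← Equiv.sum_comp e]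
    simp [Matrix.reindexAlgEquiv_apply]
  haveI : Fintype (Big p hV α ⧸ R'.ker) := Fintype.ofFinite _
  have hnorm : Cfsg.classInner (fun q => (ρ' q).trace) (fun q => (ρ' q).trace) = 1 := by
    have hfib : ∀ q, (Finset.univ.filter fun k => π k = q).card = Nat.card R'.ker := fun q => by
      obtain ⟨k₀, rfl⟩ := hπ q
      rw [← Fintype.card_subtype, ← Nat.card_eq_fintype_card]
      refine Nat.card_congr
        { toFun := fun k => ⟨k₀⁻¹ * k.1, QuotientGroup.eq.mp k.2.symm⟩
          invFun := fun m => ⟨k₀ * m.1, (QuotientGroup.eq.mpr (by simpa using m.2)).symm⟩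
          left_inv := fun k => by simp
          right_inv := fun m => by simp }
    have h1 := sum_norm_sq p hV α ρ hirr
    rw [← Finset.sum_fiberwise (g := π)] at h1
    have h2 : ∀ q, ∑ k ∈ Finset.univ.filter (fun k => π k = q),
        (bigRep p hV α ρ k).trace * conj (bigRep p hV α ρ k).trace =
        (Nat.card R'.ker : ℂ) * ((ρ' q).trace * conj (ρ' q).trace) := fun q => by
      rw [Finset.sum_congr rfl fun k hk => by
        rw [← htr k, (Finset.mem_filter.mp hk).2], Finset.sum_const, hfib, nsmul_eq_mul]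
    rw [Finset.sum_congr rfl fun q _ => h2 q, ← Finset.mul_sum,
      ← Subgroup.card_mul_index R'.ker, Nat.cast_mul] at h1
    rw [Cfsg.classInner, mul_left_cancel₀ (Nat.cast_ne_zero.mpr Nat.card_pos.ne') h1,
      Subgroup.index_eq_card, inv_mul_cancel₀ (Nat.cast_ne_zero.mpr Nat.card_pos.ne')]
  have hchar : Cfsg.IsCharacter _ (fun q => (ρ' q).trace) := by
    rw [← matRep_character]; exact isCharacter_of_rep _
  have hirr' := IsCharacter.isIrr_of_norm_one hchar hnorm
  have hcomap : (Subgroup.center _).comap π = (centralPart p hV α hα).range := by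
    ext k
    rw [Subgroup.mem_comap, mem_center_iff_scalar ρ' hρinj hirr', ← scalar_iff p hV α ρ hinj hirr hα hn]
    refine exists_congr fun c => ?_
    show (Matrix.reindexAlgEquiv ℂ ℂ e) (bigRep p hV α ρ k) = c • 1 ↔ _
    rw [← (Matrix.reindexAlgEquiv ℂ ℂ e).injective.eq_iff (b := c • 1), map_smul, map_one]
  refine ⟨_, inferInstance, inferInstance, _, ρ', π, hπ, hρinj, hirr', ?_, hcomap, fun a ha => ?_⟩
  · have h1 := Subgroup.card_mul_index (centralPart p hV α hα).range
    have h2 : ((Subgroup.center _).comap π).index = _ := Subgroup.index_comap_of_surjective _ hπ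
    rw [hcomap] at h2
    rw [← h2]
    rw [← Nat.card_congr (MonoidHom.ofInjective (centralPart_injective p hV α hα)).toEquiv,
      Nat.card_prod, SemidirectProduct.card, SemidirectProduct.card, card_aff,
      Complex.card_rootsOfUnity,
      ← Subgroup.card_mul_index (Subgroup.center H)] at h1
    refine Nat.eq_of_mul_eq_mul_left (Nat.mul_pos (Fact.out : p.Prime).pos
      (Nat.card_pos (α := Subgroup.center H))) (Eq.trans ?_ h1.symm)
    rw [Fintype.card_prod, Fintype.card_fin, ← Nat.card_eq_fintype_card, ← hn2]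
    ring
  · have h1 : R' (centralPart p hV α hα a) = 1 := (QuotientGroup.eq_one_iff _).mp ha
    have h2 : bigRep p hV α ρ (centralPart p hV α hα a) = 1 :=
      (Matrix.reindexAlgEquiv ℂ ℂ e).injective (h1.trans (map_one _).symm)
    ext i j
    have h3 := congrFun (congrFun h2 (1, i)) (1, j)
    simpa [bigRep, centralPart, ofConst, act, Matrix.one_apply] using h3

end Ext

end Cfsg.Agent.CentralTypeExt
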