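import Cfsg.Agent.Lib.CentralType.Extend

/-!
# Solvable groups embed in central quotients of fully ramified groups
-/

set_option autoImplicit false
set_option linter.style.haveILetI false
set_option linter.unusedSectionVars false

namespace Cfsg.Agent.CentralTypeExt

open Matrix Cfsg.Agent.Char
open scoped Classical

universe u

/-- `G` embeds in the central quotient of a fully ramified group with the same primes. -/
def HasEnvelope (G : Type u) [Group G] : Prop :=
  ∃ (H : Type u) (_ : Group H) (_ : Finite H) (n : ℕ) (ρ : H →* Matrix (Fin n) (Fin n) ℂ),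
    Function.Injective ρ ∧ Cfsg.IsIrrCharacter H (fun h => (ρ h).trace) ∧
    n ^ 2 = (Subgroup.center H).index ∧
    (∃ f : G →* H ⧸ Subgroup.center H, Function.Injective f) ∧
    (∀ r : ℕ, r.Prime → ((r ∣ Nat.card H ↔ r ∣ Nat.card G) ∧
      (r ∣ Nat.card (Subgroup.center H) ↔ r ∣ Nat.card G))) ∧
    Squarefree (Nat.card (Subgroup.center H))

theorem hasEnvelope_of_subsingleton (G : Type u) [Group G] [Subsingleton G] : HasEnvelope G := by
  let ρ : PUnit.{u + 1} →* Matrix (Fin 1) (Fin 1) ℂ := 1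
  have hG : Nat.card G = 1 := Nat.card_unique
  have hH : Nat.card PUnit.{u + 1} = 1 := Nat.card_unique
  have hZ : Nat.card (Subgroup.center PUnit.{u + 1}) = 1 := Nat.card_unique
  refine ⟨PUnit.{u + 1}, inferInstance, inferInstance, 1, ρ, Function.injective_of_subsingleton _,
    ?_, ?_, ⟨1, Function.injective_of_subsingleton _⟩, fun r _ => ⟨by rw [hG, hH], by rw [hG, hZ]⟩, by
      rw [hZ]; exact squarefree_one⟩
  · convert isIrrCharacter_one (G := PUnit.{u + 1}) with h
    simp [ρ]
  · have h1 := Subgroup.card_mul_index (Subgroup.center PUnit.{u + 1})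
    rw [hZ, hH, one_mul] at h1
    rw [h1, one_pow]

theorem squarefree_lcm {a b : ℕ} (ha : Squarefree a) (hb : Squarefree b) :
    Squarefree (Nat.lcm a b) := by
  rcases eq_or_ne a 0 with rfl | ha0
  · exact absurd ha not_squarefree_zero
  rcases eq_or_ne b 0 with rfl | hb0
  · exact absurd hb not_squarefree_zero
  rw [Nat.squarefree_iff_factorization_le_one (Nat.lcm_ne_zero ha0 hb0)]
  intro q
  rw [Nat.factorization_lcm ha0 hb0, Finsupp.sup_apply]
  exact sup_le (ha.natFactorization_le_one q) (hb.natFactorization_le_one q)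

/-- One step of the induction: an elementary abelian normal subgroup. -/
theorem hasEnvelope_step {G : Type u} [Group G] [Finite G] (N : Subgroup G) [N.Normal] (p : ℕ)
    [Fact p.Prime] (hcomm : IsMulCommutative N) (hexp : ∀ x ∈ N, x ^ p = 1) (hne : N ≠ ⊥)
    (hQ : HasEnvelope (G ⧸ N)) : HasEnvelope G := by
  obtain ⟨H, iH, hHfin, n, ρ, hinj, hirr, hn2, ⟨ι, hι⟩, hprimes, hsq⟩ := hQ
  haveI : Fintype H := Fintype.ofFinite H
  set Q := G ⧸ N with hQdef
  set Q' := H ⧸ Subgroup.center H with hQ'def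
  haveI : Fintype Q' := Fintype.ofFinite Q'
  letI : CommGroup N := { (inferInstance : Group N) with mul_comm := fun a b => mul_comm' a b }
  haveI : Fintype N := Fintype.ofFinite N
  let V := Q' → N
  haveI : Fintype V := inferInstanceAs (Fintype (Q' → N))
  have hV : ∀ x : V, x ^ p = 1 := fun x => funext fun q => Subtype.ext (hexp _ (x q).2)
  -- the translation action
  let α : H →* MulAut V :=
    { toFun := fun h =>
        { toFun := fun v x => v ((QuotientGroup.mk h : Q')⁻¹ * x)
          invFun := fun v x => v ((QuotientGroup.mk h : Q') * x)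
          left_inv := fun v => funext fun x => by simp
          right_inv := fun v => funext fun x => by simp
          map_mul' := fun v w => rfl }
      map_one' := MulEquiv.ext fun v => funext fun x =>
        show v ((QuotientGroup.mk (1 : H) : Q')⁻¹ * x) = v x by simp
      map_mul' := fun a b => MulEquiv.ext fun v => funext fun x => by
        show v ((QuotientGroup.mk (a * b) : Q')⁻¹ * x) =
          v ((QuotientGroup.mk b : Q')⁻¹ * ((QuotientGroup.mk a : Q')⁻¹ * x))
        rw [QuotientGroup.mk_mul, _root_.mul_inv_rev, mul_assoc] }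
  have hα : ∀ z ∈ Subgroup.center H, α z = 1 := fun z hz =>
    MulEquiv.ext fun v => funext fun x => by
      show v ((QuotientGroup.mk z : Q')⁻¹ * x) = v x
      rw [(QuotientGroup.eq_one_iff z).mpr hz, inv_one, one_mul]
  obtain ⟨H', iH', hfin', n', ρ', π, hπ, hinj', hirr', hn2', hcomap, hker⟩ :=
    exists_ext p hV α ρ hinj hirr hn2 hα
  haveI := hfin'
  haveI : Finite (Big p hV α) := Finite.of_equiv _ SemidirectProduct.equivProd.symm
  set cp := centralPart p hV α hα with hcp
  have hcen : ∀ a, π (cp a) ∈ Subgroup.center H' := fun a => by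
    rw [← Subgroup.mem_comap, hcomap]; exact ⟨a, rfl⟩
  have hsurjc : ∀ z ∈ Subgroup.center H', ∃ a, π (cp a) = z := fun z hz => by
    obtain ⟨k, rfl⟩ := hπ z
    rw [← Subgroup.mem_comap, hcomap] at hz
    obtain ⟨a, rfl⟩ := hz
    exact ⟨a, rfl⟩
  -- equivariant section
  haveI : ι.range.FiniteIndex := inferInstance
  obtain ⟨t, ht⟩ : ∃ t : Q' → Q, ∀ q x, t (ι q * x) = q * t x := by
    obtain ⟨T, hT, -⟩ := ι.range.exists_isComplement_right 1
    refine ⟨fun x => (MonoidHom.ofInjective hι).symm (hT.equiv x).1, fun q x => ?_⟩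
    have h1 := hT.equiv_mul_left ⟨ι q, ⟨q, rfl⟩⟩ x
    show (MonoidHom.ofInjective hι).symm (hT.equiv (((⟨ι q, ⟨q, rfl⟩⟩ : ι.range) : Q') * x)).1 = _
    rw [h1]
    show (MonoidHom.ofInjective hι).symm (_ * (hT.equiv x).1) = _
    rw [map_mul]
    congr 1
    exact (MulEquiv.symm_apply_eq _).mpr (Subtype.ext (MonoidHom.ofInjective_apply hι).symm)
  let s : Q' → G := fun x => (t x).out
  have hs : ∀ x, (QuotientGroup.mk (s x) : Q) = t x := fun x => Quotient.out_eq _
  let v : G → V := fun g x => ⟨(s x)⁻¹ * g * s ((ι g)⁻¹ * x), by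
    rw [← QuotientGroup.eq_one_iff]
    show ((QuotientGroup.mk ((s x)⁻¹ * g * s ((ι g)⁻¹ * x))) : Q) = 1
    rw [QuotientGroup.mk_mul, QuotientGroup.mk_mul, QuotientGroup.mk_inv, hs, hs, ← map_inv, ht]
    group⟩
  let l : G → H := fun g => (ι g : Q').out
  have hl : ∀ g : G, (QuotientGroup.mk (l g) : Q') = ι g := fun g => Quotient.out_eq _
  let φ : (V ⋊[α] H) →* H' ⧸ Subgroup.center H' :=
    (QuotientGroup.mk' _).comp (π.comp SemidirectProduct.inr)
  have hφ : ∀ z ∈ Subgroup.center H, φ ⟨1, z⟩ = 1 := fun z hz => by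
    refine (QuotientGroup.eq_one_iff _).mpr ?_
    have h1 : π (SemidirectProduct.inr ⟨1, z⟩) = π (cp (1, ⟨z, hz⟩)) :=
      congrArg π (SemidirectProduct.ext rfl rfl)
    show π (SemidirectProduct.inr ⟨1, z⟩) ∈ Subgroup.center H'
    rw [h1]
    exact hcen (1, ⟨z, hz⟩)
  have hmul : ∀ a b : G, ∃ z ∈ Subgroup.center H,
      (⟨v (a * b), l (a * b)⟩ : V ⋊[α] H) = ⟨v a, l a⟩ * ⟨v b, l b⟩ * ⟨1, z⟩ := by
    intro a b
    have hz : (l a * l b)⁻¹ * l (a * b) ∈ Subgroup.center H := by
      rw [← QuotientGroup.eq_one_iff, QuotientGroup.mk_mul, QuotientGroup.mk_inv,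
        QuotientGroup.mk_mul, hl, hl, hl, ← map_mul, ← QuotientGroup.mk_mul, inv_mul_cancel]
    refine ⟨_, hz, SemidirectProduct.ext ?_ ?_⟩
    · simp only [SemidirectProduct.mul_left, map_one, mul_one]
      funext x
      refine Subtype.ext ?_
      show (s x)⁻¹ * (a * b) * s ((ι ↑(a * b))⁻¹ * x) =
        (s x)⁻¹ * a * s ((ι ↑a)⁻¹ * x) * ((s ((QuotientGroup.mk (l a) : Q')⁻¹ * x))⁻¹ * b *
          s ((ι ↑b)⁻¹ * ((QuotientGroup.mk (l a) : Q')⁻¹ * x)))
      rw [hl, QuotientGroup.mk_mul, map_mul, _root_.mul_inv_rev, mul_assoc (ι ↑b)⁻¹]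
      group
    · simp only [SemidirectProduct.mul_right]
      group
  let f : G →* H' ⧸ Subgroup.center H' :=
    MonoidHom.mk' (fun g => φ ⟨v g, l g⟩) fun a b => by
      obtain ⟨z, hz, h⟩ := hmul a b
      rw [h, map_mul, map_mul, hφ z hz, mul_one]
  have hf : Function.Injective f := by
    rw [← MonoidHom.ker_eq_bot_iff, Subgroup.eq_bot_iff_forall]
    intro g hg
    have hg' : (QuotientGroup.mk (π (SemidirectProduct.inr ⟨v g, l g⟩)) : H' ⧸ Subgroup.center H') = 1 :=
      hg
    have h1 : SemidirectProduct.inr ⟨v g, l g⟩ ∈ (Subgroup.center H').comap π :=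
      (QuotientGroup.eq_one_iff (π (SemidirectProduct.inr ⟨v g, l g⟩))).mp hg'
    rw [hcomap] at h1
    obtain ⟨⟨c, z⟩, hcz⟩ := h1
    have h2 : (⟨1, (z : H)⟩ : V ⋊[α] H) = ⟨v g, l g⟩ := congrArg SemidirectProduct.right hcz
    have hv : v g = 1 := (congrArg SemidirectProduct.left h2).symm
    have hι1 : ι (g : Q) = 1 := by
      rw [← hl, QuotientGroup.eq_one_iff]
      have h3 : (z : H) = l g := congrArg SemidirectProduct.right h2
      exact h3 ▸ z.2
    have h4 : (s 1)⁻¹ * g * s ((ι ↑g)⁻¹ * 1) = 1 := congrArg Subtype.val (congrFun hv 1)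
    rw [hι1, inv_one, one_mul, mul_assoc, inv_mul_eq_one] at h4
    exact mul_eq_right.mp h4.symm
  -- orders
  have hpG : p ∣ Nat.card G := by
    obtain ⟨x, hx, hx1⟩ := (Subgroup.ne_bot_iff_exists_ne_one (H := N)).mp hne |>
      fun ⟨x, hx⟩ => (⟨x.1, x.2, fun h => hx (Subtype.ext h)⟩ : ∃ x, x ∈ N ∧ x ≠ 1)
    have := orderOf_eq_prime (hexp x hx) hx1
    exact this ▸ orderOf_dvd_natCard x
  have hNp : ∀ r : ℕ, r.Prime → r ∣ Nat.card N → r = p := fun r hr hd => by
    haveI := Fact.mk hr
    obtain ⟨x, hx⟩ := exists_prime_orderOf_dvd_card' r hd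
    have h1 : orderOf x ∣ p := orderOf_dvd_of_pow_eq_one (Subtype.ext (hexp x x.2))
    rw [hx] at h1
    exact (Nat.prime_dvd_prime_iff_eq hr Fact.out).mp h1
  have hGprimes : ∀ r : ℕ, r.Prime → (r ∣ Nat.card G ↔ r = p ∨ r ∣ Nat.card Q) := by
    intro r hr
    have h1 : Nat.card G = Nat.card Q * Nat.card N := Subgroup.card_eq_card_quotient_mul_card_subgroup N
    refine ⟨fun h => ?_, ?_⟩
    · rw [h1] at h
      exact ((Nat.Prime.dvd_mul hr).mp h).symm.imp_left (hNp r hr)
    · rintro (rfl | h)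
      exacts [hpG, h1 ▸ h.mul_right _]
  have hcp1 : ∀ a, π (cp a) = 1 → ((a.1 : ℂˣ) : ℂ) • ρ (a.2 : H) = 1 := hker
  have hn : 0 < n := Nat.pos_of_ne_zero fun h => Subgroup.index_ne_zero_of_finite
    (H := Subgroup.center H) (by rw [← hn2, h]; rfl)
  have hcp_p : p ∣ Nat.card (Subgroup.center H') := by
    haveI : NeZero p := ⟨(Fact.out : p.Prime).ne_zero⟩
    obtain ⟨ζ, hζ⟩ : ∃ ζ : rootsOfUnity p ℂ, ζ ≠ 1 := by
      haveI : Nontrivial (rootsOfUnity p ℂ) := Finite.one_lt_card_iff_nontrivial.mp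
        (by rw [Complex.card_rootsOfUnity]; exact (Fact.out : p.Prime).one_lt)
      exact exists_ne 1
    have hne1 : π (cp (ζ, 1)) ≠ 1 := fun h => by
      have h1 := congrFun (congrFun (hcp1 _ h) ⟨0, hn⟩) ⟨0, hn⟩
      simp only [OneMemClass.coe_one, map_one, Matrix.smul_apply, Matrix.one_apply_eq, smul_eq_mul,
        mul_one] at h1
      exact hζ (Subtype.ext (Units.ext h1))
    have hpow : (π (cp (ζ, 1))) ^ p = 1 := by
      rw [← map_pow, ← map_pow, show ((ζ, 1) : rootsOfUnity p ℂ × Subgroup.center H) ^ p = 1 from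
        Prod.ext (Subtype.ext ζ.2) (one_pow p), map_one, map_one]
    have hord : orderOf (π (cp (ζ, 1))) = p := orderOf_eq_prime hpow hne1
    have h2 := Subgroup.orderOf_dvd_natCard (Subgroup.center H') (hcen (ζ, 1))
    rwa [hord] at h2
  have hcen_r : ∀ r : ℕ, r.Prime → r ∣ Nat.card (Subgroup.center H) →
      r ∣ Nat.card (Subgroup.center H') := by
    intro r hr hd
    haveI := Fact.mk hr
    obtain ⟨z, hz⟩ := exists_prime_orderOf_dvd_card' r hd
    have hne1 : π (cp (1, z)) ≠ 1 := fun h => by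
      have h1 := hcp1 _ h
      simp only [OneMemClass.coe_one, Units.val_one, one_smul] at h1
      have h2 : z = 1 := Subtype.ext (hinj (h1.trans (map_one ρ).symm))
      rw [h2, orderOf_one] at hz
      exact hr.ne_one hz.symm
    have hpow : (π (cp (1, z))) ^ r = 1 := by
      rw [← map_pow, ← map_pow, show ((1, z) : rootsOfUnity p ℂ × Subgroup.center H) ^ r = 1 from
        Prod.ext (one_pow r) (by show z ^ r = 1; rw [← hz, pow_orderOf_eq_one]), map_one, map_one]
    have hord : orderOf (π (cp (1, z))) = r := orderOf_eq_prime hpow hne1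
    have h2 := Subgroup.orderOf_dvd_natCard (Subgroup.center H') (hcen (1, z))
    rwa [hord] at h2
  -- the centre is cyclic of squarefree exponent
  have hcyc : IsCyclic (Subgroup.center H') := by
    have hn' : 0 < n' := Nat.pos_of_ne_zero fun h => Subgroup.index_ne_zero_of_finite
      (H := Subgroup.center H') (by rw [← hn2', h]; rfl)
    let i₀ : Fin n' := ⟨0, hn'⟩
    choose c hc using fun z : Subgroup.center H' =>
      (mem_center_iff_scalar ρ' hinj' hirr' _).mp z.2
    have hval : ∀ z : Subgroup.center H', ρ' (z : H') i₀ i₀ = c z := fun z => by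
      rw [hc z, Matrix.smul_apply, Matrix.one_apply_eq, smul_eq_mul, mul_one]
    let σ : Subgroup.center H' →* ℂ :=
      { toFun := fun z => ρ' (z : H') i₀ i₀
        map_one' := by simp
        map_mul' := fun a b => by
          rw [Subgroup.coe_mul, map_mul, hc a, hc b]; simp [mul_comm] }
    refine isCyclic_of_injective_ringHom σ fun a b h => Subtype.ext (hinj' ?_)
    have h' : c a = c b := (hval a).symm.trans (Eq.trans h (hval b))
    rw [hc a, hc b, h']
  have hsq' : Squarefree (Nat.card (Subgroup.center H')) := by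
    refine (squarefree_lcm (Fact.out : p.Prime).squarefree hsq).squarefree_of_dvd ?_
    rw [← IsCyclic.exponent_eq_card (α := Subgroup.center H')]
    refine Monoid.exponent_dvd_of_forall_pow_eq_one fun z => Subtype.ext ?_
    obtain ⟨⟨c, y⟩, hcy⟩ := hsurjc z z.2
    rw [Subgroup.coe_pow, ← hcy, ← map_pow, ← map_pow]
    have h1 : ((c, y) : rootsOfUnity p ℂ × Subgroup.center H) ^ Nat.lcm p (Nat.card (Subgroup.center H)) = 1 := by
      refine Prod.ext (Subtype.ext ?_) ?_
      · obtain ⟨k, hk⟩ := Nat.dvd_lcm_left p (Nat.card (Subgroup.center H))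
        show (c : ℂˣ) ^ _ = 1
        rw [hk, pow_mul, show (c : ℂˣ) ^ p = 1 from c.2, one_pow]
      · obtain ⟨k, hk⟩ := Nat.dvd_lcm_right p (Nat.card (Subgroup.center H))
        show y ^ _ = 1
        rw [hk, pow_mul, pow_card_eq_one', one_pow]
    rw [h1, map_one, map_one]
    rfl
  have hH'r : ∀ r : ℕ, r.Prime → r ∣ Nat.card H' → r = p ∨ r ∣ Nat.card H := by
    intro r hr hd
    have h1 : r ∣ Nat.card (Big p hV α) := hd.trans (Subgroup.card_dvd_of_surjective π hπ)
    rw [SemidirectProduct.card, SemidirectProduct.card, card_aff,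
      show Nat.card V = Nat.card N ^ Nat.card Q' from Nat.card_fun] at h1
    rcases (Nat.Prime.dvd_mul hr).mp h1 with h | h
    · rcases (Nat.Prime.dvd_mul hr).mp h with h | h
      · exact Or.inl ((Nat.prime_dvd_prime_iff_eq hr Fact.out).mp h)
      · exact Or.inl (hNp r hr (hr.dvd_of_dvd_pow h))
    · rcases (Nat.Prime.dvd_mul hr).mp h with h | h
      · exact Or.inl (hNp r hr (hr.dvd_of_dvd_pow h))
      · exact Or.inr h
  refine ⟨H', iH', hfin', n', ρ', hinj', hirr', hn2', ⟨f, hf⟩, fun r hr => ?_, hsq'⟩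
  have hback : r = p ∨ r ∣ Nat.card Q → r ∣ Nat.card (Subgroup.center H') := by
    rintro (rfl | h)
    exacts [hcp_p, hcen_r r hr (((hprimes r hr).2).mpr h)]
  have hforth : r ∣ Nat.card H' → r = p ∨ r ∣ Nat.card Q := fun h =>
    (hH'r r hr h).imp_right ((hprimes r hr).1).mp
  rw [hGprimes r hr]
  exact ⟨⟨hforth, fun h => (hback h).trans (Subgroup.card_subgroup_dvd_card _)⟩,
    ⟨fun h => hforth (h.trans (Subgroup.card_subgroup_dvd_card _)), hback⟩⟩

theorem hasEnvelope_aux : ∀ (m : ℕ) (G : Type u) [Group G] [Finite G], Nat.card G ≤ m →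
    Group.IsSolvable G → HasEnvelope G := by
  intro m
  induction m with
  | zero =>
    intro G _ _ h _
    exact absurd h (by simpa using (Nat.card_pos (α := G)).ne')
  | succ m ih =>
    intro G _ _ h hs
    rcases subsingleton_or_nontrivial G with hG | hG
    · exact hasEnvelope_of_subsingleton G
    obtain ⟨M, p, hp, hMn, hne, -, hc, hexp, -, -⟩ :=
      SolvBasic.exists_minimal_normal_abelian (G := G) (N := ⊤) inferInstance top_ne_bot
    haveI := hMn
    haveI := Fact.mk hp
    refine hasEnvelope_step M p hc hexp hne (ih _ ?_ inferInstance)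
    have h1 := Subgroup.card_eq_card_quotient_mul_card_subgroup M
    have h2 : 1 < Nat.card M := (Subgroup.one_lt_card_iff_ne_bot M).mpr hne
    have h3 : 0 < Nat.card (G ⧸ M) := Nat.card_pos
    nlinarith

end Cfsg.Agent.CentralTypeExt
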